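import Cfsg.Agent.H211.Hup.NcFrame
import Cfsg.Agent.H704.S8.Defs_m3
import Cfsg.Agent.H66.Cod.Base
import Cfsg.Agent.H827.S8.Kernel
import Cfsg.Agent.H849.OZ.Bad_m3
import Cfsg.Agent.H627.PrincipalCount
import Cfsg.Agent.H940.EngData
import Cfsg.Agent.H701.ZerosCols
import Cfsg.Agent.H319.PQ.Cosets_m3
import Cfsg.Agent.FastGrp
import Cfsg.Agent.Prune
set_option linter.all false

section
prune_inst 0x7f00000000000000000000000000000000000000000000000000000000000000000000000000000000000000000000000000000000000000000000000000000000000000000000000000000000000000003fffffffffffffffffffffffffffbeffbdffffffff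

-- part: H211/S8/Nc
section
set_option linter.all false
open scoped Cfsg.Agent.FastGrp

/-!
# S4908, box NC: no noncentral abelian chief factor below a sporadic group

`noncentral`: `Chief c D X` kills a noncentral minimal normal abelian `V` with `N / V = X` inside a group with degrees in `D`.
-/

set_option autoImplicit false
set_option linter.unusedSectionVars false
set_option linter.style.haveILetI false

universe u v

namespace Cfsg.Agent.H211.S8

open Cfsg Cfsg.Agent.Characters.Core Cfsg.Agent.H686.CharKit Cfsg.Agent.H672 Cfsg.Agent.H211.Hup Cfsg.Agent.H704.S8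
open Subgroup
open scoped ComplexConjugate commutatorElement

section Nc

variable {P : Type u} [Group P] [Finite P]

open Cfsg.Agent.OddOrderCharacters.PF9.CliffGen (irr_ind resTo)
open Cfsg.Agent.OddOrderCharacters.NormalInduced (conjFn)

/-- **NC0** with a factor `c`: small degrees force large inertia groups. -/
theorem nc_c (c : ℕ) (V : Subgroup P) [hV : V.Normal] (l : V →* ℂˣ) (T : Subgroup P)
    (hT : ∀ g, g ∈ T ↔ ∀ v : V, l (MulAut.conjNormal g v) = l v) (hVT : V ≤ T)
    (hB : ∀ χ : IrrCharacter P, charDegree (χ : P → ℂ) ^ 2 < c * V.index) :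
    T.index < c * Nat.card (ConjClasses (T ⧸ V.subgroupOf T)) ∧
      ∃ χ : IrrCharacter P, T.index ∣ charDegree (χ : P → ℂ) := by
  classical
  have := Fintype.ofFinite P
  have := Fintype.ofFinite V
  have := Fintype.ofFinite T
  have := finite_irr (G := T)
  have := Fintype.ofFinite (IrrCharacter T)
  let e : V.subgroupOf T ≃* V := Subgroup.subgroupOfEquivOfLe hVT
  let l' : V.subgroupOf T →* ℂˣ := l.comp e.toMonoidHom
  have hl' : ∀ x : V.subgroupOf T, l' x = l (e x) := fun _ => rfl
  have he : ∀ x : V.subgroupOf T, ((e x : V) : P) = ((x : T) : P) := fun _ => rfl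
  have hinv : ∀ (t : T) (v : V.subgroupOf T), l' (MulAut.conjNormal t v) = l' v := by
    intro t v
    rw [hl', hl', ← (hT t).1 t.2 (e v)]
    congr 1
  have hsum := sum_sq_ov (V.subgroupOf T) l' hinv
  set S := Finset.univ.filter fun χ : IrrCharacter T => Ov (V.subgroupOf T) l' (χ : T → ℂ) with hS
  have hidx : (V.subgroupOf T).index * T.index = V.index := Subgroup.relIndex_mul_index hVT
  have hT0 : 0 < T.index := Nat.pos_of_ne_zero Subgroup.index_ne_zero_of_finite
  have hVT0 : 0 < (V.subgroupOf T).index := Nat.pos_of_ne_zero Subgroup.index_ne_zero_of_finite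
  have hdeg' : ∀ χ ∈ S, ∃ ψ : IrrCharacter P, charDegree (ψ : P → ℂ) = T.index * charDegree (χ : T → ℂ) := by
    intro χ hχ
    have hov : Ov (V.subgroupOf T) l' (χ : T → ℂ) := (Finset.mem_filter.1 hχ).2
    have h1 : IsIrrCharacter P (indFun T (χ : T → ℂ)) := by
      refine irr_ind (N := V) (θ := lf l) (isIrr_lf l) (fun g => ?_) hVT χ.2 ?_
      · rw [hT, funext_iff]
        refine forall_congr' fun v => ?_
        exact ⟨fun h => congrArg Units.val h, fun h => Units.ext h⟩
      · have h2 : resTo hVT (χ : T → ℂ) = ((χ : T → ℂ) 1) • lf l := by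
          funext v
          have h3 := hov (e.symm v) 1
          rw [mul_one, hl', MulEquiv.apply_symm_apply] at h3
          have h4 : ((e.symm v : V.subgroupOf T) : T) = ⟨(v : P), hVT v.2⟩ := by
            apply Subtype.ext
            rw [← he, MulEquiv.apply_symm_apply]
          rw [h4] at h3
          show (χ : T → ℂ) ⟨(v : P), hVT v.2⟩ = _
          rw [h3, Pi.smul_apply, smul_eq_mul, lf_apply, mul_comm]
        rw [h2, classInner_smul_left, classInner_irr_self (isIrr_lf l), mul_one]
        exact isIrr_apply_one_ne_zero χ.2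
    have h5 : charDegree (indFun T (χ : T → ℂ)) = T.index * charDegree (χ : T → ℂ) := by
      apply charDegree_of_eq
      rw [OddOrderCharacters.InertiaAbelian.indFun_one, ← charDegree_irr χ]
      push_cast; rfl
    exact ⟨⟨_, h1⟩, h5⟩
  have hdeg : ∀ χ ∈ S, (T.index * charDegree (χ : T → ℂ)) ^ 2 < c * V.index := by
    intro χ hχ
    obtain ⟨ψ, hψ⟩ := hdeg' χ hχ
    rw [← hψ]
    exact hB ψ
  have hne : S.Nonempty := by
    rw [Finset.nonempty_iff_ne_empty]
    intro h0
    rw [h0, Finset.sum_empty] at hsum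
    omega
  have h7 : ∑ χ ∈ S, (T.index * charDegree (χ : T → ℂ)) ^ 2 = T.index ^ 2 * (V.subgroupOf T).index := by
    rw [← hsum, Finset.mul_sum]
    exact Finset.sum_congr rfl fun χ _ => by ring
  have h8 := Finset.sum_lt_sum_of_nonempty hne hdeg
  rw [h7, Finset.sum_const, smul_eq_mul, ← hidx] at h8
  have h9 : T.index < c * S.card := by
    have h10 : (T.index * (V.subgroupOf T).index) * T.index < (T.index * (V.subgroupOf T).index) * (c * S.card) := by
      nlinarith
    exact Nat.lt_of_mul_lt_mul_left h10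
  constructor
  · refine h9.trans_le (Nat.mul_le_mul_left c ?_)
    have h11 := card_ov_le (V.subgroupOf T) l'
    rwa [Nat.card_eq_fintype_card, Fintype.card_subtype] at h11
  · obtain ⟨χ, hχ⟩ := hne
    obtain ⟨ψ, hψ⟩ := hdeg' χ hχ
    exact ⟨ψ, by rw [hψ]; exact dvd_mul_right _ _⟩

end Nc

theorem frame {c : ℕ} {X : Type v} [Group X] [Finite X] {D : Set ℕ} {P : Type u} [Group P] [Finite P]
    (hdvd : ∀ χ : IrrCharacter P, ∃ d ∈ D, charDegree (χ : P → ℂ) ∣ d)
    (hB : ∀ χ : IrrCharacter P, charDegree (χ : P → ℂ) ^ 2 < c * Nat.card X)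
    (V : Subgroup P) [hV : V.Normal] (hab : ∀ a ∈ V, ∀ b ∈ V, a * b = b * a) (hVP : ⁅V, (⊤ : Subgroup P)⁆ = V)
    (f : P →* X) (hf : Function.Surjective f) (hk : f.ker = V) (habs : Chief.{u} c D X) : V = ⊥ := by
  classical
  let _ : CommGroup V := { (inferInstance : Group V) with
    mul_comm := fun a b => Subtype.ext (hab a a.2 b b.2) }
  have hcard : Nat.card (V →* ℂˣ) = Nat.card V := CommGroup.card_monoidHom_of_hasEnoughRootsOfUnity V ℂ
  have hfin : Finite (V →* ℂˣ) := Nat.finite_of_card_ne_zero (by rw [hcard]; exact Nat.card_pos.ne')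
  have hidx : V.index = Nat.card X := by
    rw [← hk, Subgroup.index_ker, MonoidHom.range_eq_top.2 hf, Nat.card_congr Subgroup.topEquiv.toEquiv]
  -- the action factors through `f`
  have hker : f.ker ≤ (dual V).ker := by
    intro a ha
    rw [hk] at ha
    rw [MonoidHom.mem_ker]
    apply MulEquiv.ext
    intro l
    show dual V a l = l
    rw [dual_eq_iff]
    intro v
    congr 1
    apply Subtype.ext
    show a * (v : P) * a⁻¹ = v
    rw [hab a ha v v.2, mul_inv_cancel_right]
  obtain ⟨ρ, hρ⟩ : ∃ ρ : X →* MulAut (V →* ℂˣ), ∀ g, ρ (f g) = dual V g := by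
    refine ⟨f.liftOfSurjective hf ⟨dual V, hker⟩, fun g => ?_⟩
    exact f.liftOfRightInverse_comp_apply _ _ ⟨dual V, hker⟩ g
  have key := habs (V →* ℂˣ) ρ ?_
  · have h1 : Nat.card (V →* ℂˣ) = 1 := by
      rw [Nat.card_eq_one_iff_unique]
      exact ⟨⟨fun a b => by rw [key a, key b]⟩, ⟨1⟩⟩
    rw [hcard] at h1
    exact Subgroup.eq_bot_of_card_eq V h1
  · intro l hl
    -- the inertia group
    let T : Subgroup P :=
      { carrier := {g | dual V g l = l}
        one_mem' := by
          show dual V 1 l = l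
          rw [map_one]; rfl
        mul_mem' := by
          intro a b ha hb
          show dual V (a * b) l = l
          rw [map_mul, MulAut.mul_apply, show dual V b l = l from hb, show dual V a l = l from ha]
        inv_mem' := by
          intro a ha
          show dual V a⁻¹ l = l
          have h1 : dual V a l = l := ha
          conv_lhs => rw [← h1]
          rw [← MulAut.mul_apply, ← map_mul, inv_mul_cancel, map_one]; rfl }
    have hT : ∀ g, g ∈ T ↔ dual V g l = l := fun g => Iff.rfl
    have hT' : ∀ g, g ∈ T ↔ ∀ v, l (MulAut.conjNormal g v) = l v := fun g => (hT g).trans (dual_eq_iff V g l)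
    have hVT : V ≤ T := by
      intro a ha
      rw [← hk] at ha
      rw [hT, MonoidHom.mem_ker.1 (hker ha)]
      rfl
    have hTtop : T ≠ ⊤ := by
      intro h
      apply hl
      have h1 : V ≤ l.ker.map V.subtype := by
        conv_lhs => rw [← hVP]
        rw [Subgroup.commutator_le]
        intro a ha g _
        have h2 : g ∈ T := by rw [h]; trivial
        have h3 := (hT' g).1 h2 ⟨a, ha⟩
        refine ⟨⟨a, ha⟩ * (MulAut.conjNormal g ⟨a, ha⟩)⁻¹, ?_, ?_⟩
        · show l _ = 1
          rw [map_mul, map_inv, h3, mul_inv_cancel]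
        · show a * (g * a * g⁻¹)⁻¹ = a * g * a⁻¹ * g⁻¹
          group
      ext v
      obtain ⟨w, hw, hwv⟩ := h1 v.2
      have h2 : w = v := Subtype.ext hwv
      rw [← h2]
      exact congrArg Units.val hw
    obtain ⟨hnc, ψ, hψ⟩ := nc_c c V l T hT' hVT (by rw [hidx]; exact hB)
    -- the image in `X`
    let F : T →* X := f.comp T.subtype
    have hF : ∀ t : T, F t = f (t : P) := fun _ => rfl
    have hFk : F.ker = V.subgroupOf T := by
      ext t
      rw [MonoidHom.mem_ker, hF, ← MonoidHom.mem_ker, hk]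
      rfl
    have hmem : ∀ g : X, g ∈ F.range ↔ ρ g l = l := by
      intro g
      obtain ⟨x, rfl⟩ := hf g
      rw [hρ, ← hT]
      constructor
      · rintro ⟨t, ht⟩
        rw [hF] at ht
        have h2 : (t : P)⁻¹ * x ∈ V := by
          rw [← hk, MonoidHom.mem_ker, map_mul, map_inv, ht, inv_mul_cancel]
        have h3 : x = t * ((t : P)⁻¹ * x) := by group
        rw [h3]
        exact mul_mem t.2 (hVT h2)
      · intro hx
        exact ⟨⟨x, hx⟩, rfl⟩
    let e1 : T ⧸ V.subgroupOf T ≃* F.range :=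
      (QuotientGroup.quotientMulEquivOfEq hFk.symm).trans (QuotientGroup.quotientKerEquivRange F)
    have hc1 : Nat.card F.range = V.relIndex T := by
      rw [← Nat.card_congr e1.toEquiv]
      rfl
    have hc2 : V.relIndex T * T.index = Nat.card X := by
      rw [Subgroup.relIndex_mul_index hVT, hidx]
    have hpos : 0 < V.relIndex T := by
      rw [← hc1]; exact Nat.card_pos
    have hidx2 : F.range.index = T.index := by
      have h1 := F.range.card_mul_index
      rw [hc1, ← hc2] at h1
      exact Nat.eq_of_mul_eq_mul_left hpos h1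
    refine ⟨F.range, hmem, ?_, ?_, ?_⟩
    · intro h
      apply hTtop
      rw [← Subgroup.index_eq_one, ← hidx2, h, Subgroup.index_top]
    · rw [← card_conj_congr e1, hc1, ← hc2, Nat.mul_left_comm]
      exact Nat.mul_lt_mul_of_pos_left hnc hpos
    · obtain ⟨d, hd, hdd⟩ := hdvd ψ
      exact ⟨d, hd, by rw [hidx2]; exact hψ.trans hdd⟩

/-- an irreducible character of `N` has degree dividing a degree of `G` -/
theorem exists_dvd {G : Type u} [Group G] [Finite G] (N : Subgroup G) [N.Normal] (θ : IrrCharacter N) :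
    ∃ d ∈ charDegrees G, charDegree (θ : N → ℂ) ∣ d := by
  obtain ⟨χ, hχ, h⟩ := exists_over_subtype N θ.2
  exact ⟨charDegree χ, ⟨⟨χ, hχ⟩, rfl⟩, (charDegree_dvd_of_over N hχ θ.2 h).1⟩

/-- **NC**: no noncentral abelian minimal normal `V` with `N / V = X` in a group with degrees in `D` -/
theorem noncentral {c : ℕ} {X : Type v} [Group X] [Finite X] {D : Set ℕ} (hD0 : ∀ d ∈ D, 0 < d)
    (hD : ∀ d ∈ D, d ^ 2 < c * Nat.card X) (habs : Chief.{u} c D X)
    {G : Type u} [Group G] [Finite G] (h : charDegrees G ⊆ D) (N V : Subgroup G) [N.Normal] [V.Normal]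
    (hVN : V ≤ N) (e : (N ⧸ V.subgroupOf N) ≃* X) (hab : ⁅V, V⁆ = ⊥) (hne : V ≠ ⊥) (hVN' : ⁅V, N⁆ = V) : False := by
  let f : N →* X := e.toMonoidHom.comp (QuotientGroup.mk' (V.subgroupOf N))
  have hker : f.ker = V.subgroupOf N := by
    ext x
    rw [MonoidHom.mem_ker]
    show e (QuotientGroup.mk' _ x) = 1 ↔ _
    rw [EmbeddingLike.map_eq_one_iff, ← MonoidHom.mem_ker, QuotientGroup.ker_mk']
  have h1 := frame (c := c) (D := D) (P := N) (fun χ => ?_) (fun χ => ?_) (V.subgroupOf N) ?_ ?_ f
    (e.surjective.comp (QuotientGroup.mk'_surjective _)) hker habs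
  · rw [Subgroup.subgroupOf_eq_bot, disjoint_iff, inf_eq_left.2 hVN] at h1
    exact hne h1
  · obtain ⟨d, hd, h2⟩ := exists_dvd N χ
    exact ⟨d, h hd, h2⟩
  · obtain ⟨d, hd, h2⟩ := exists_dvd N χ
    exact lt_of_le_of_lt (Nat.pow_le_pow_left (Nat.le_of_dvd (hD0 d (h hd)) h2) 2) (hD d (h hd))
  · intro a ha b hb
    have h2 : ⁅(a : G), (b : G)⁆ = 1 := by
      have h3 := Subgroup.commutator_mem_commutator (Subgroup.mem_subgroupOf.1 ha) (Subgroup.mem_subgroupOf.1 hb)
      rwa [hab, Subgroup.mem_bot] at h3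
    exact Subtype.ext (commutatorElement_eq_one_iff_mul_comm.1 h2)
  · apply Subgroup.map_injective N.subtype_injective
    rw [Subgroup.map_commutator, Subgroup.subgroupOf_map_subtype, ← MonoidHom.range_eq_map, Subgroup.range_subtype,
      inf_eq_left.2 hVN, hVN']

theorem pos_of_mem {G : Type u} [Group G] [Finite G] {d : ℕ} (hd : d ∈ charDegrees G) : 0 < d := by
  obtain ⟨ψ, rfl⟩ := hd
  exact Nat.pos_of_ne_zero fun h0 => by
    have := Characters.Core.isIrr_apply_one_ne_zero ψ.2
    rw [← charDegree_cast (isIrr_isCharacter ψ.2), h0] at this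
    exact this Nat.cast_zero

theorem sq_lt_of_mem {G : Type u} [Group G] [Finite G] (h1 : 1 < Nat.card G) {d : ℕ} (hd : d ∈ charDegrees G) :
    d ^ 2 < Nat.card G := by
  obtain ⟨χ, rfl⟩ := hd
  by_cases h : (χ : G → ℂ) = 1
  · rw [h, H495.Cod.charDegree_one]
    omega
  · have := H495.Cod.sq_lt χ h
    omega

/-- the two facts on `D` needed for `noncentral` -/
theorem deg_pos {c : ℕ} {X : Type v} [Group X] [Finite X] {D : Set ℕ} (hD : Deg c X D) : ∀ d ∈ D, 0 < d := by
  intro d hd
  rcases hD with rfl | ⟨_, rfl⟩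
  · exact pos_of_mem hd
  · exact pos_of_mem hd

theorem deg_sq {c : ℕ} {X : Type v} [Group X] [Finite X] [IsSimpleGroup X] (hna : ¬ IsMulCommutative X) (hc : 1 ≤ c)
    (hout : (MulAut.conj : X →* MulAut X).range.index ≤ c) {D : Set ℕ} (hD : Deg c X D) :
    ∀ d ∈ D, d ^ 2 < c * Nat.card X := by
  have h1 : 1 < Nat.card X := Finite.one_lt_card
  intro d hd
  rcases hD with rfl | ⟨_, rfl⟩
  · exact (sq_lt_of_mem h1 hd).trans_le (Nat.le_mul_of_pos_left _ hc)
  · have hZ : Subgroup.center X = ⊥ := by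
      rcases (Subgroup.center X).normal_of_characteristic.eq_bot_or_eq_top with h | h
      · exact h
      · exact absurd ⟨⟨fun a b => by
          have : a ∈ Subgroup.center X := by rw [h]; trivial
          exact ((Subgroup.mem_center_iff.1 this) b).symm⟩⟩ hna
    have hinj : Function.Injective (MulAut.conj : X →* MulAut X) := by
      rw [← MonoidHom.ker_eq_bot_iff, ← hZ]
      ext a
      rw [MonoidHom.mem_ker, Subgroup.mem_center_iff]
      constructor
      · intro h b
        have := DFunLike.congr_fun h b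
        simp only [MulAut.conj_apply, MulAut.one_apply] at this
        rw [mul_inv_eq_iff_eq_mul] at this
        exact this.symm
      · intro h
        ext b
        simp only [MulAut.conj_apply, MulAut.one_apply]
        rw [← h b, mul_inv_cancel_right]
    have h2 : Nat.card (MulAut.conj : X →* MulAut X).range = Nat.card X :=
      (Nat.card_congr (MonoidHom.ofInjective hinj).toEquiv).symm
    have h3 := (MulAut.conj : X →* MulAut X).range.card_mul_index
    rw [h2] at h3
    have h4 : Nat.card (MulAut X) ≤ c * Nat.card X := by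
      rw [← h3, Nat.mul_comm c]
      exact Nat.mul_le_mul_left _ hout
    exact (sq_lt_of_mem (h1.trans_le (by
      rw [← h3]
      exact Nat.le_mul_of_pos_right _ (Nat.pos_of_ne_zero Subgroup.index_ne_zero_of_finite))) hd).trans_le h4

end Cfsg.Agent.H211.S8
end

-- part: H670/S8/Sharp
section
set_option linter.all false
open scoped Cfsg.Agent.FastGrp

/-!
# S4908, boxes NC and FROB with a sharper condition on the inertia groups (helper670)

`Sharp D T`: numbers `e i` with `∑ (e i)² = |T|`, at most `k(T)` of them, and `|X : T| (e i)` divides a member of `D` (the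
degrees of the characters over a linear character with inertia group `T`). `ChiefS` is `Chief` with `Sharp D T` added to the
hypothesis, so `Chief → ChiefS`. `noncentralS`: `ChiefS` kills the noncentral abelian chief factors below `X`. `chiefS_of`:
the criterion with Frobenius groups and `r`-groups (helper827) for `ChiefS`.
-/

set_option autoImplicit false
set_option linter.unusedSectionVars false
set_option linter.style.haveILetI false

universe u v

namespace Cfsg.Agent.H670.S8

open Cfsg Cfsg.Agent.Characters.Core Cfsg.Agent.H686.CharKit Cfsg.Agent.H672 Cfsg.Agent.H211.Hup Cfsg.Agent.H704.S8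
open Subgroup
open scoped ComplexConjugate commutatorElement

/-- the degrees over a linear character with inertia group `T` -/
def Sharp (D : Set ℕ) {X : Type v} [Group X] (T : Subgroup X) : Prop :=
  ∃ s : Multiset ℕ, (∀ e ∈ s, ∃ d ∈ D, T.index * e ∣ d) ∧ (s.map fun e => e ^ 2).sum = Nat.card T ∧
    s.card ≤ Nat.card (ConjClasses T)

/-- `Chief` with the sharper hypothesis -/
def ChiefS (c : ℕ) (D : Set ℕ) (X : Type v) [Group X] : Prop :=
  ∀ (Λ : Type u) [CommGroup Λ] [Finite Λ] (ρ : X →* MulAut Λ),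
    (∀ x : Λ, x ≠ 1 → ∃ T : Subgroup X, (∀ g : X, g ∈ T ↔ ρ g x = x) ∧ T ≠ ⊤ ∧
      (Nat.card X < c * (Nat.card T * Nat.card (ConjClasses T)) ∧ ∃ d ∈ D, T.index ∣ d) ∧ Sharp D T) →
    ∀ x : Λ, x = 1

section Nc

variable {P : Type u} [Group P] [Finite P]

open Cfsg.Agent.OddOrderCharacters.PF9.CliffGen (irr_ind resTo)
open Cfsg.Agent.OddOrderCharacters.NormalInduced (conjFn)

/-- the degrees over a linear character -/
theorem nc_s (V : Subgroup P) [hV : V.Normal] (l : V →* ℂˣ) (T : Subgroup P)
    (hT : ∀ g, g ∈ T ↔ ∀ v : V, l (MulAut.conjNormal g v) = l v) (hVT : V ≤ T) :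
    ∃ s : Multiset ℕ, (∀ e ∈ s, ∃ χ : IrrCharacter P, charDegree (χ : P → ℂ) = T.index * e) ∧
      (s.map fun e => e ^ 2).sum = (V.subgroupOf T).index ∧ s.card ≤ Nat.card (ConjClasses (T ⧸ V.subgroupOf T)) := by
  classical
  have := Fintype.ofFinite P
  have := Fintype.ofFinite V
  have := Fintype.ofFinite T
  have := finite_irr (G := T)
  have := Fintype.ofFinite (IrrCharacter T)
  let e : V.subgroupOf T ≃* V := Subgroup.subgroupOfEquivOfLe hVT
  let l' : V.subgroupOf T →* ℂˣ := l.comp e.toMonoidHom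
  have hl' : ∀ x : V.subgroupOf T, l' x = l (e x) := fun _ => rfl
  have he : ∀ x : V.subgroupOf T, ((e x : V) : P) = ((x : T) : P) := fun _ => rfl
  have hinv : ∀ (t : T) (v : V.subgroupOf T), l' (MulAut.conjNormal t v) = l' v := by
    intro t v
    rw [hl', hl', ← (hT t).1 t.2 (e v)]
    congr 1
  have hsum := sum_sq_ov (V.subgroupOf T) l' hinv
  set S := Finset.univ.filter fun χ : IrrCharacter T => Ov (V.subgroupOf T) l' (χ : T → ℂ) with hS
  have hdeg' : ∀ χ ∈ S, ∃ ψ : IrrCharacter P, charDegree (ψ : P → ℂ) = T.index * charDegree (χ : T → ℂ) := by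
    intro χ hχ
    have hov : Ov (V.subgroupOf T) l' (χ : T → ℂ) := (Finset.mem_filter.1 hχ).2
    have h1 : IsIrrCharacter P (indFun T (χ : T → ℂ)) := by
      refine irr_ind (N := V) (θ := lf l) (isIrr_lf l) (fun g => ?_) hVT χ.2 ?_
      · rw [hT, funext_iff]
        refine forall_congr' fun v => ?_
        exact ⟨fun h => congrArg Units.val h, fun h => Units.ext h⟩
      · have h2 : resTo hVT (χ : T → ℂ) = ((χ : T → ℂ) 1) • lf l := by
          funext v
          have h3 := hov (e.symm v) 1
          rw [mul_one, hl', MulEquiv.apply_symm_apply] at h3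
          have h4 : ((e.symm v : V.subgroupOf T) : T) = ⟨(v : P), hVT v.2⟩ := by
            apply Subtype.ext
            rw [← he, MulEquiv.apply_symm_apply]
          rw [h4] at h3
          show (χ : T → ℂ) ⟨(v : P), hVT v.2⟩ = _
          rw [h3, Pi.smul_apply, smul_eq_mul, lf_apply, mul_comm]
        rw [h2, classInner_smul_left, classInner_irr_self (isIrr_lf l), mul_one]
        exact isIrr_apply_one_ne_zero χ.2
    have h5 : charDegree (indFun T (χ : T → ℂ)) = T.index * charDegree (χ : T → ℂ) := by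
      apply charDegree_of_eq
      rw [OddOrderCharacters.InertiaAbelian.indFun_one, ← charDegree_irr χ]
      push_cast; rfl
    exact ⟨⟨_, h1⟩, h5⟩
  refine ⟨Multiset.map (fun χ : IrrCharacter T => charDegree (χ : T → ℂ)) S.val, ?_, ?_, ?_⟩
  · intro e he
    obtain ⟨χ, hχ, rfl⟩ := Multiset.mem_map.1 he
    exact hdeg' χ hχ
  · rw [Multiset.map_map, ← hsum]
    rfl
  · rw [Multiset.card_map]
    have h11 := card_ov_le (V.subgroupOf T) l'
    rwa [Nat.card_eq_fintype_card, Fintype.card_subtype] at h11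

end Nc

theorem frameS {c : ℕ} {X : Type v} [Group X] [Finite X] {D : Set ℕ} {P : Type u} [Group P] [Finite P]
    (hdvd : ∀ χ : IrrCharacter P, ∃ d ∈ D, charDegree (χ : P → ℂ) ∣ d)
    (hB : ∀ χ : IrrCharacter P, charDegree (χ : P → ℂ) ^ 2 < c * Nat.card X)
    (V : Subgroup P) [hV : V.Normal] (hab : ∀ a ∈ V, ∀ b ∈ V, a * b = b * a) (hVP : ⁅V, (⊤ : Subgroup P)⁆ = V)
    (f : P →* X) (hf : Function.Surjective f) (hk : f.ker = V) (habs : ChiefS.{u} c D X) : V = ⊥ := by
  classical
  let _ : CommGroup V := { (inferInstance : Group V) with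
    mul_comm := fun a b => Subtype.ext (hab a a.2 b b.2) }
  have hcard : Nat.card (V →* ℂˣ) = Nat.card V := CommGroup.card_monoidHom_of_hasEnoughRootsOfUnity V ℂ
  have hfin : Finite (V →* ℂˣ) := Nat.finite_of_card_ne_zero (by rw [hcard]; exact Nat.card_pos.ne')
  have hidx : V.index = Nat.card X := by
    rw [← hk, Subgroup.index_ker, MonoidHom.range_eq_top.2 hf, Nat.card_congr Subgroup.topEquiv.toEquiv]
  -- the action factors through `f`
  have hker : f.ker ≤ (dual V).ker := by
    intro a ha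
    rw [hk] at ha
    rw [MonoidHom.mem_ker]
    apply MulEquiv.ext
    intro l
    show dual V a l = l
    rw [dual_eq_iff]
    intro v
    congr 1
    apply Subtype.ext
    show a * (v : P) * a⁻¹ = v
    rw [hab a ha v v.2, mul_inv_cancel_right]
  obtain ⟨ρ, hρ⟩ : ∃ ρ : X →* MulAut (V →* ℂˣ), ∀ g, ρ (f g) = dual V g := by
    refine ⟨f.liftOfSurjective hf ⟨dual V, hker⟩, fun g => ?_⟩
    exact f.liftOfRightInverse_comp_apply _ _ ⟨dual V, hker⟩ g
  have key := habs (V →* ℂˣ) ρ ?_
  · have h1 : Nat.card (V →* ℂˣ) = 1 := by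
      rw [Nat.card_eq_one_iff_unique]
      exact ⟨⟨fun a b => by rw [key a, key b]⟩, ⟨1⟩⟩
    rw [hcard] at h1
    exact Subgroup.eq_bot_of_card_eq V h1
  · intro l hl
    -- the inertia group
    let T : Subgroup P :=
      { carrier := {g | dual V g l = l}
        one_mem' := by
          show dual V 1 l = l
          rw [map_one]; rfl
        mul_mem' := by
          intro a b ha hb
          show dual V (a * b) l = l
          rw [map_mul, MulAut.mul_apply, show dual V b l = l from hb, show dual V a l = l from ha]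
        inv_mem' := by
          intro a ha
          show dual V a⁻¹ l = l
          have h1 : dual V a l = l := ha
          conv_lhs => rw [← h1]
          rw [← MulAut.mul_apply, ← map_mul, inv_mul_cancel, map_one]; rfl }
    have hT : ∀ g, g ∈ T ↔ dual V g l = l := fun g => Iff.rfl
    have hT' : ∀ g, g ∈ T ↔ ∀ v, l (MulAut.conjNormal g v) = l v := fun g => (hT g).trans (dual_eq_iff V g l)
    have hVT : V ≤ T := by
      intro a ha
      rw [← hk] at ha
      rw [hT, MonoidHom.mem_ker.1 (hker ha)]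
      rfl
    have hTtop : T ≠ ⊤ := by
      intro h
      apply hl
      have h1 : V ≤ l.ker.map V.subtype := by
        conv_lhs => rw [← hVP]
        rw [Subgroup.commutator_le]
        intro a ha g _
        have h2 : g ∈ T := by rw [h]; trivial
        have h3 := (hT' g).1 h2 ⟨a, ha⟩
        refine ⟨⟨a, ha⟩ * (MulAut.conjNormal g ⟨a, ha⟩)⁻¹, ?_, ?_⟩
        · show l _ = 1
          rw [map_mul, map_inv, h3, mul_inv_cancel]
        · show a * (g * a * g⁻¹)⁻¹ = a * g * a⁻¹ * g⁻¹
          group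
      ext v
      obtain ⟨w, hw, hwv⟩ := h1 v.2
      have h2 : w = v := Subtype.ext hwv
      rw [← h2]
      exact congrArg Units.val hw
    obtain ⟨hnc, ψ, hψ⟩ := H211.S8.nc_c c V l T hT' hVT (by rw [hidx]; exact hB)
    obtain ⟨s, hs1, hs2, hs3⟩ := nc_s V l T hT' hVT
    -- the image in `X`
    let F : T →* X := f.comp T.subtype
    have hF : ∀ t : T, F t = f (t : P) := fun _ => rfl
    have hFk : F.ker = V.subgroupOf T := by
      ext t
      rw [MonoidHom.mem_ker, hF, ← MonoidHom.mem_ker, hk]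
      rfl
    have hmem : ∀ g : X, g ∈ F.range ↔ ρ g l = l := by
      intro g
      obtain ⟨x, rfl⟩ := hf g
      rw [hρ, ← hT]
      constructor
      · rintro ⟨t, ht⟩
        rw [hF] at ht
        have h2 : (t : P)⁻¹ * x ∈ V := by
          rw [← hk, MonoidHom.mem_ker, map_mul, map_inv, ht, inv_mul_cancel]
        have h3 : x = t * ((t : P)⁻¹ * x) := by group
        rw [h3]
        exact mul_mem t.2 (hVT h2)
      · intro hx
        exact ⟨⟨x, hx⟩, rfl⟩
    let e1 : T ⧸ V.subgroupOf T ≃* F.range :=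
      (QuotientGroup.quotientMulEquivOfEq hFk.symm).trans (QuotientGroup.quotientKerEquivRange F)
    have hc1 : Nat.card F.range = V.relIndex T := by
      rw [← Nat.card_congr e1.toEquiv]
      rfl
    have hc2 : V.relIndex T * T.index = Nat.card X := by
      rw [Subgroup.relIndex_mul_index hVT, hidx]
    have hpos : 0 < V.relIndex T := by
      rw [← hc1]; exact Nat.card_pos
    have hidx2 : F.range.index = T.index := by
      have h1 := F.range.card_mul_index
      rw [hc1, ← hc2] at h1
      exact Nat.eq_of_mul_eq_mul_left hpos h1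
    refine ⟨F.range, hmem, ?_, ⟨?_, ?_⟩, ?_⟩
    · intro h
      apply hTtop
      rw [← Subgroup.index_eq_one, ← hidx2, h, Subgroup.index_top]
    · rw [← card_conj_congr e1, hc1, ← hc2, Nat.mul_left_comm]
      exact Nat.mul_lt_mul_of_pos_left hnc hpos
    · obtain ⟨d, hd, hdd⟩ := hdvd ψ
      exact ⟨d, hd, by rw [hidx2]; exact hψ.trans hdd⟩
    · refine ⟨s, fun e he => ?_, ?_, ?_⟩
      · obtain ⟨χ, hχ⟩ := hs1 e he
        obtain ⟨d, hd, hdd⟩ := hdvd χ
        exact ⟨d, hd, by rw [hidx2, ← hχ]; exact hdd⟩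
      · rw [hs2, hc1]; rfl
      · rw [← card_conj_congr e1]; exact hs3

/-- **NC**: no noncentral abelian minimal normal `V` with `N / V = X` in a group with degrees in `D` -/
theorem noncentralS {c : ℕ} {X : Type v} [Group X] [Finite X] {D : Set ℕ} (hD0 : ∀ d ∈ D, 0 < d)
    (hD : ∀ d ∈ D, d ^ 2 < c * Nat.card X) (habs : ChiefS.{u} c D X)
    {G : Type u} [Group G] [Finite G] (h : charDegrees G ⊆ D) (N V : Subgroup G) [N.Normal] [V.Normal]
    (hVN : V ≤ N) (e : (N ⧸ V.subgroupOf N) ≃* X) (hab : ⁅V, V⁆ = ⊥) (hne : V ≠ ⊥) (hVN' : ⁅V, N⁆ = V) : False := by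
  let f : N →* X := e.toMonoidHom.comp (QuotientGroup.mk' (V.subgroupOf N))
  have hker : f.ker = V.subgroupOf N := by
    ext x
    rw [MonoidHom.mem_ker]
    show e (QuotientGroup.mk' _ x) = 1 ↔ _
    rw [EmbeddingLike.map_eq_one_iff, ← MonoidHom.mem_ker, QuotientGroup.ker_mk']
  have h1 := frameS (c := c) (D := D) (P := N) (fun χ => ?_) (fun χ => ?_) (V.subgroupOf N) ?_ ?_ f
    (e.surjective.comp (QuotientGroup.mk'_surjective _)) hker habs
  · rw [Subgroup.subgroupOf_eq_bot, disjoint_iff, inf_eq_left.2 hVN] at h1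
    exact hne h1
  · obtain ⟨d, hd, h2⟩ := H211.S8.exists_dvd N χ
    exact ⟨d, h hd, h2⟩
  · obtain ⟨d, hd, h2⟩ := H211.S8.exists_dvd N χ
    exact lt_of_le_of_lt (Nat.pow_le_pow_left (Nat.le_of_dvd (hD0 d (h hd)) h2) 2) (hD d (h hd))
  · intro a ha b hb
    have h2 : ⁅(a : G), (b : G)⁆ = 1 := by
      have h3 := Subgroup.commutator_mem_commutator (Subgroup.mem_subgroupOf.1 ha) (Subgroup.mem_subgroupOf.1 hb)
      rwa [hab, Subgroup.mem_bot] at h3
    exact Subtype.ext (commutatorElement_eq_one_iff_mul_comm.1 h2)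
  · apply Subgroup.map_injective N.subtype_injective
    rw [Subgroup.map_commutator, Subgroup.subgroupOf_map_subtype, ← MonoidHom.range_eq_map, Subgroup.range_subtype,
      inf_eq_left.2 hVN, hVN']

/-! ### the criterion -/

/-- no proper subgroup containing `Q` satisfies the conditions -/
def SideS (c : ℕ) (D : Set ℕ) (X : Type v) [Group X] (Q : Subgroup X) : Prop :=
  ∀ T : Subgroup X, T ≠ ⊤ → Q ≤ T → (∃ d ∈ D, T.index ∣ d) → Sharp D T →
    c * (Nat.card T * Nat.card (ConjClasses T)) ≤ Nat.card X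

/-- `K : Q` is a Frobenius group (or `Q = 1`) -/
def Frob {X : Type v} [Group X] (K Q : Subgroup X) : Prop :=
  (∀ g ∈ Q, ∀ u ∈ K, g * u * g⁻¹ ∈ K) ∧ ∀ u ∈ K, ∀ g ∈ Q, g * u = u * g → u = 1 ∨ g = 1

theorem chiefS_of {X : Type v} [Group X] [Finite X] [IsSimpleGroup X] {c : ℕ} {D : Set ℕ}
    (h : ∀ r : ℕ, r.Prime → ∃ Q : Subgroup X, SideS c D X Q ∧
      ((∃ K : Subgroup X, K ≠ ⊥ ∧ ¬ r ∣ Nat.card K ∧ Frob K Q) ∨ IsPGroup r Q)) : ChiefS.{u} c D X := by
  intro Λ _ _ ρ hT
  by_contra hx
  push Not at hx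
  obtain ⟨x₀, hx₀⟩ := hx
  -- a prime divisor of the order
  have hc : Nat.card Λ ≠ 1 := by
    intro h1
    have := (Nat.card_eq_one_iff_unique.1 h1).1
    exact hx₀ (Subsingleton.elim _ _)
  obtain ⟨r, hr, hrL⟩ := Nat.exists_prime_and_dvd hc
  have : Fact r.Prime := ⟨hr⟩
  obtain ⟨z, hz⟩ := exists_prime_orderOf_dvd_card' r hrL
  have hz1 : z ≠ 1 := by
    rintro rfl
    rw [orderOf_one] at hz
    exact hr.one_lt.ne hz
  -- it is enough to find a nontrivial element fixed by a subgroup `Q` with `SideS`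
  have key : ∀ Q : Subgroup X, SideS c D X Q → (∃ x : Λ, x ≠ 1 ∧ ∀ g ∈ Q, ρ g x = x) → False := by
    rintro Q hQ ⟨x, hx1, hx⟩
    obtain ⟨T, hT1, hT2, ⟨hT3, hT4⟩, hT5⟩ := hT x hx1
    exact absurd (hQ T hT2 (fun g hg => (hT1 g).2 (hx g hg)) hT4 hT5) (not_le.2 hT3)
  obtain ⟨Q, hQ, ⟨K, hK1, hKr, hK⟩ | hP⟩ := h r hr
  · refine key Q hQ (H827.S8.exists_fix ρ K Q hK.1 hK.2 ?_)
    by_contra hno
    push Not at hno
    -- the kernel of the action on the elements of order dividing `r`
    let N : Subgroup X :=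
      { carrier := {g | ∀ x : Λ, x ^ r = 1 → ρ g x = x}
        one_mem' := fun x _ => by rw [map_one]; rfl
        mul_mem' := fun {a b} ha hb x hx => by rw [map_mul, MulAut.mul_apply, hb x hx, ha x hx]
        inv_mem' := fun {a} ha x hx => by
          have h1 : ρ a⁻¹ (ρ a x) = x := by rw [← MulAut.mul_apply, ← map_mul, inv_mul_cancel, map_one]; rfl
          rwa [ha x hx] at h1 }
    have hN : N.Normal := ⟨fun n hn g x hx => by
      have h1 : (ρ g⁻¹ x) ^ r = 1 := by rw [← map_pow, hx, map_one]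
      rw [map_mul, map_mul, MulAut.mul_apply, MulAut.mul_apply, hn _ h1, ← MulAut.mul_apply, ← map_mul,
        mul_inv_cancel, map_one]
      rfl⟩
    obtain ⟨T, hT1, hT2, -⟩ := hT z hz1
    have hNT : N ≤ T := fun g hg => (hT1 g).2 (hg z (by rw [← hz]; exact pow_orderOf_eq_one z))
    have hNb : N = ⊥ := by
      rcases hN.eq_bot_or_eq_top with h1 | h1
      · exact h1
      · exact absurd (top_le_iff.1 (h1 ▸ hNT)) hT2
    refine hK1 ((Subgroup.eq_bot_iff_forall K).2 fun u hu => ?_)
    have h2 : u ∈ N := fun x hx => by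
      refine hno u hu x ?_
      have h3 : orderOf x ∣ r := orderOf_dvd_of_pow_eq_one hx
      exact Nat.Coprime.coprime_dvd_right h3 ((Nat.coprime_comm.1 ((Nat.Prime.coprime_iff_not_dvd hr).2 hKr)))
    rwa [hNb, Subgroup.mem_bot] at h2
  · exact key Q hQ (H827.S8.exists_fix_pgroup ρ Q hP hrL)

/-- all proper subgroups are excluded -/
theorem chiefS_of_all {X : Type v} [Group X] [Finite X] [IsSimpleGroup X] {c : ℕ} {D : Set ℕ}
    (h : SideS c D X ⊥) : ChiefS.{u} c D X :=
  chiefS_of fun _ _ => ⟨⊥, h, Or.inr (IsPGroup.of_bot)⟩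

/-- **the bound for `k(T)` from the degrees**: `|T| ≤ k(T) E²` -/
theorem Sharp.card_le {D : Set ℕ} {X : Type v} [Group X] [Finite X] {T : Subgroup X} (h : Sharp D T) {E : ℕ}
    (hE : ∀ e : ℕ, (∃ d ∈ D, T.index * e ∣ d) → e ≤ E) : Nat.card T ≤ Nat.card (ConjClasses T) * E ^ 2 := by
  obtain ⟨s, h1, h2, h3⟩ := h
  rw [← h2]
  refine le_trans ?_ (Nat.mul_le_mul_right _ h3)
  have h4 : ∀ x ∈ s.map fun e => e ^ 2, x ≤ E ^ 2 := by
    intro x hx
    obtain ⟨e, he, rfl⟩ := Multiset.mem_map.1 hx
    exact Nat.pow_le_pow_left (hE e (h1 e he)) 2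
  have h5 := Multiset.sum_le_card_nsmul _ _ h4
  rwa [Multiset.card_map, smul_eq_mul] at h5

end Cfsg.Agent.H670.S8
end

-- part: H670/S8/KB
section
set_option linter.all false
open scoped Cfsg.Agent.FastGrp

/-!
# An upper bound for the number of classes of a subgroup (helper670, for S4908)

A character of degree prime to `p` does not vanish at an element `x` of order `p`, so at most `|C_T(x)|` characters of
`T` have degree prime to `p`; the characters of degree divisible by `P` number at most `|T| / P²`. For a set `S` of primes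
dividing `|T|`: `k(T) ≤ ∑_{p ∈ S} |C_T(x_p)| + |T| / (∏ S)²`.
-/

set_option autoImplicit false

namespace Cfsg.Agent.H670.S8

open Cfsg Subgroup Cfsg.Agent.Characters

universe u

/-- the number of irreducible characters with degree divisible by `P` -/
noncomputable def nd (T : Type u) [Group T] (P : ℕ) : ℕ :=
  Nat.card {χ : IrrCharacter T // P ∣ charDegree (χ : T → ℂ)}

variable {T : Type u} [Group T] [Finite T]

theorem nd_one : nd T 1 = Nat.card (ConjClasses T) := by
  rw [nd, ← Core.card_irr]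
  exact Nat.card_congr (Equiv.subtypeUnivEquiv fun χ => one_dvd _)

theorem nd_mul_le {P : ℕ} : nd T P * P ^ 2 ≤ Nat.card T := by
  classical
  have : Finite (IrrCharacter T) := Core.finite_irr
  have : Fintype (IrrCharacter T) := Fintype.ofFinite _
  rw [← H686.CharKit.sum_deg_sq (G := T), nd, Nat.card_eq_fintype_card, Fintype.card_subtype, ← smul_eq_mul,
    ← Finset.sum_const]
  refine (Finset.sum_le_sum fun χ hχ => ?_).trans (Finset.sum_le_sum_of_subset (Finset.filter_subset _ _))
  have h1 : 0 < charDegree (χ : T → ℂ) := H686.CharKit.charDegree_pos χ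
  exact Nat.pow_le_pow_left (Nat.le_of_dvd h1 (Finset.mem_filter.1 hχ).2) 2

/-- **one prime** -/
theorem nd_step {p P : ℕ} (hp : p.Prime) (hc : p.Coprime P) {x : T} (hx : orderOf x = p) :
    nd T P ≤ Nat.card (centralizer ({x} : Set T)) + nd T (P * p) := by
  classical
  have : Fact p.Prime := ⟨hp⟩
  have hfin : Finite (IrrCharacter T) := Core.finite_irr
  have : Fintype (IrrCharacter T) := Fintype.ofFinite _
  have h1 := H296.BD.card_ne_zero_le x
  refine le_trans ?_ (Nat.add_le_add_right h1 _)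
  rw [nd, nd, Nat.card_eq_fintype_card, Nat.card_eq_fintype_card, Nat.card_eq_fintype_card, Fintype.card_subtype,
    Fintype.card_subtype, Fintype.card_subtype]
  refine le_trans (Finset.card_le_card ?_) (Finset.card_union_le _ _)
  intro χ hχ
  rw [Finset.mem_filter] at hχ
  rw [Finset.mem_union, Finset.mem_filter, Finset.mem_filter]
  by_cases h : p ∣ charDegree (χ : T → ℂ)
  · exact Or.inr ⟨Finset.mem_univ _, hc.symm.mul_dvd_of_dvd_of_dvd hχ.2 h⟩
  · exact Or.inl ⟨Finset.mem_univ _, H627.PrincipalCount.apply_ne_zero (Core.isIrr_isCharacter χ.2) h x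
      ⟨1, by rw [hx, pow_one]⟩⟩

/-! ### the Boolean -/

/-- the largest common divisor with a member of the list -/
def cmax (cs : List ℕ) (m : ℕ) : ℕ := cs.foldr (fun c a => Nat.max (Nat.gcd c m) a) 0

theorem le_cmax {cs : List ℕ} {m c k : ℕ} (hc : c ∈ cs) (hm : 0 < m) (h1 : k ∣ c) (h2 : k ∣ m) : k ≤ cmax cs m := by
  induction cs with
  | nil => exact absurd hc (List.not_mem_nil)
  | cons a l ih =>
    show k ≤ Nat.max (Nat.gcd a m) (cmax l m)
    rcases List.mem_cons.1 hc with rfl | h
    · exact (Nat.le_of_dvd (Nat.gcd_pos_of_pos_right _ hm) (Nat.dvd_gcd h1 h2)).trans (Nat.le_max_left _ _)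
    · exact (ih h).trans (Nat.le_max_right _ _)

/-- data at a prime: the centralizers of the elements of order `p` have order dividing a member of `cs` -/
def CLoc (X : Type u) [Group X] (x : ℕ × List ℕ) : Prop :=
  x.1.Prime ∧ ∀ g : X, orderOf g = x.1 → ∃ c ∈ x.2, Nat.card (centralizer ({g} : Set X)) ∣ c

/-- `s` characters are counted, the others have degree divisible by `P`; is `k ≤ b` ? -/
def kb : List (ℕ × List ℕ) → ℕ → ℕ → ℕ → ℕ → Bool
  | [], m, s, P, b => Nat.ble (s + m / (P * P)) b
  | x :: l, m, s, P, b => Nat.ble (s + m / (P * P)) b ||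
      (if Nat.beq (m % x.1) 0 && Nat.beq (Nat.gcd x.1 P) 1 then kb l m (s + cmax x.2 m) (P * x.1) b else kb l m s P b)

theorem card_cent_sub {X : Type u} [Group X] [Finite X] (H : Subgroup X) (y : H) :
    Nat.card (centralizer ({y} : Set H)) ∣ Nat.card (centralizer ({(y : X)} : Set X)) := by
  have h : (centralizer ({y} : Set H)).map H.subtype ≤ centralizer ({(y : X)} : Set X) := by
    rintro _ ⟨z, hz, rfl⟩
    have h1 := mem_centralizer_singleton_iff.1 hz
    exact mem_centralizer_singleton_iff.2 (congrArg Subtype.val h1)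
  rw [Nat.card_congr ((centralizer ({y} : Set H)).equivMapOfInjective H.subtype H.subtype_injective).toEquiv]
  exact card_dvd_of_le h

theorem kb_sound {X : Type u} [Group X] [Finite X] (H : Subgroup X) {b : ℕ} :
    ∀ {l : List (ℕ × List ℕ)} {s P : ℕ}, (∀ x ∈ l, CLoc X x) → kb l (Nat.card H) s P b = true → 0 < P →
      Nat.card (ConjClasses H) ≤ s + nd H P → Nat.card (ConjClasses H) ≤ b := by
  have base : ∀ {s P : ℕ}, 0 < P → Nat.ble (s + Nat.card H / (P * P)) b = true →
      Nat.card (ConjClasses H) ≤ s + nd H P → Nat.card (ConjClasses H) ≤ b := by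
    intro s P hP h1 h2
    rw [Nat.ble_eq] at h1
    refine h2.trans (le_trans (Nat.add_le_add_left ?_ s) h1)
    rw [Nat.le_div_iff_mul_le (Nat.mul_pos hP hP), ← pow_two]
    exact nd_mul_le
  intro l
  induction l with
  | nil =>
    intro s P _ h hP hk
    exact base hP h hk
  | cons x l ih =>
    intro s P hl h hP hk
    unfold kb at h
    rw [Bool.or_eq_true] at h
    rcases h with h | h
    · exact base hP h hk
    · have hl' : ∀ y ∈ l, CLoc X y := fun y hy => hl y (List.mem_cons_of_mem _ hy)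
      split_ifs at h with hc
      · rw [Bool.and_eq_true] at hc
        have h1 : x.1 ∣ Nat.card H := Nat.dvd_of_mod_eq_zero (Nat.eq_of_beq_eq_true hc.1)
        have h2 : Nat.Coprime x.1 P := Nat.eq_of_beq_eq_true hc.2
        obtain ⟨hp, hcl⟩ := hl x List.mem_cons_self
        have : Fact x.1.Prime := ⟨hp⟩
        obtain ⟨y, hy⟩ := exists_prime_orderOf_dvd_card' (G := H) x.1 h1
        obtain ⟨c, hc1, hc2⟩ := hcl (y : X) (by rw [orderOf_coe]; exact hy)
        refine ih hl' h (Nat.mul_pos hP hp.pos) (hk.trans ?_)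
        have h3 := nd_step hp h2 hy
        have h4 : Nat.card (centralizer ({y} : Set H)) ≤ cmax x.2 (Nat.card H) :=
          le_cmax hc1 Nat.card_pos ((card_cent_sub H y).trans hc2) (card_subgroup_dvd_card _)
        omega
      · exact ih hl' h hP hk

/-- **the bound** -/
theorem card_cls_le {X : Type u} [Group X] [Finite X] (H : Subgroup X) {l : List (ℕ × List ℕ)} (hl : ∀ x ∈ l, CLoc X x)
    {b : ℕ} (h : kb l (Nat.card H) 0 1 b = true) : Nat.card (ConjClasses H) ≤ b :=
  kb_sound H hl h one_pos (by rw [nd_one, zero_add])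

end Cfsg.Agent.H670.S8

private theorem dce_0c1b76bbb70c : _root_.True := by
  try have : _root_.True := by simp only [_root_.Cfsg.Agent.H670.S8.kb.eq_def]
  try have : _root_.True := by simp only [_root_.Cfsg.Agent.H670.S8.nd.eq_1]
  exact _root_.True.intro
end

-- part: H670/S8/FrobEng
section
set_option linter.all false
open scoped Cfsg.Agent.FastGrp

/-!
# An engine for the rows FROB of S4908 (helper670)

`frobRow_of` : the row follows from one kernel computation over the divisors `m` of `|X|` (the orders of the subgroups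
`T`): `m` is excluded if
* neither `|P|` nor `|Q|` divides `m`;
* `c m² ≤ |X|`, or `k(T) ≤ |X| / (c m)` by the bound of `KB.lean`;
* the order engine of helper940 excludes `m` (`bad`);
* the index `|X| / m` divides no member of the list `adm` (a superset of `D`);
* the index is in the list `ex` (those are to be handled by hand).

`frob_pair` : a Frobenius subgroup from `|C(R)| = r`.
-/

set_option autoImplicit false

namespace Cfsg.Agent.H670.S8

open Cfsg Subgroup Cfsg.Agent.H940.Eng Cfsg.Agent.H704.S8 Cfsg.Agent.OrdDiv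

universe u v

/-- all products `m ∏ p ^ k`, `k ≤ e` -/
def allD (P : ℕ → Bool) : List (ℕ × ℕ) → ℕ → Bool
  | [], m => P m
  | x :: l, m => (List.range (x.2 + 1)).all fun a => allD P l (m * x.1 ^ a)

theorem allD_sound {P : ℕ → Bool} : ∀ {l : List (ℕ × ℕ)} {m : ℕ}, allD P l m = true → ∀ d ∈ divsT l, P (m * d) = true := by
  intro l
  induction l with
  | nil =>
    intro m h d hd
    rw [divsT, List.mem_singleton] at hd
    rw [hd, mul_one]
    exact h
  | cons x l ih =>
    intro m h d hd
    rw [divsT, List.mem_flatMap] at hd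
    obtain ⟨k, hk, hd⟩ := hd
    rw [List.mem_map] at hd
    obtain ⟨d', hd', rfl⟩ := hd
    unfold allD at h
    rw [List.all_eq_true] at h
    rw [← mul_assoc]
    exact ih (h k hk) d' hd'

theorem allD_of_divs {P : ℕ → Bool} : ∀ {l : List (ℕ × ℕ)} {m : ℕ}, (∀ d ∈ divsT l, P (m * d) = true) → allD P l m = true
  | [], m, h => Nat.mul_one m ▸ h 1 (List.mem_singleton.2 rfl)
  | x :: _, m, h => List.all_eq_true.2 fun a ha => allD_of_divs fun d hd =>
    (Nat.mul_assoc m (x.1 ^ a) d).symm ▸ h _ (List.mem_flatMap.2 ⟨a, ha, List.mem_map.2 ⟨d, hd, rfl⟩⟩)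

/-- the test for the order `m` -/
def ftest (l : List (ℕ × ℕ)) (n c r e : ℕ) (cls : List (List (ℕ × List ℕ))) (adm ex : List ℕ) (bd : ℕ) (loc : List LD)
    (ords : List ℕ) (m : ℕ) : Bool :=
  Nat.ble (c * (m * m)) n || (!(Nat.beq (m % r) 0) && !(Nat.beq (m % e) 0)) ||
    (cls.any fun cl => kb cl m 0 1 (n / m / c)) || Nat.beq m n ||
    (match adm with | [] => false | _ :: _ => adm.all fun d => !(Nat.beq (d % (n / m)) 0)) ||
    (ex.any fun i => Nat.beq i (n / m)) || bad l n [] bd loc ords m

/-- **the engine** -/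
theorem frobRow_of {X : Type u} [Group X] {l : List (ℕ × ℕ)} {n : ℕ} {ords : List ℕ} {loc : List LD}
    (ctx : Ctx X l n ords loc) {c : ℕ} (hc : 0 < c) {D : Set ℕ} {cls : List (List (ℕ × List ℕ))}
    (hcls : ∀ cl ∈ cls, ∀ x ∈ cl, CLoc X x) {adm : List ℕ} (hadm : adm ≠ [] → ∀ d ∈ D, d ∈ adm) {ex : List ℕ} {bd r e : ℕ}
    {P Q : Subgroup X} (hr : r.Prime) (hP : Nat.card P = r) (hQe : Nat.card Q = e)
    (hQ : Q ≤ normalizer (P : Set X)) (hfp : ∀ u ∈ P, ∀ g ∈ Q, g * u = u * g → u = 1 ∨ g = 1) (hQ1 : Q ≠ ⊥)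
    (hex : ∀ T : Subgroup X, T ≠ ⊤ → (P ≤ T ∨ Q ≤ T) → (∃ d ∈ D, T.index ∣ d) → T.index ∈ ex →
      c * (Nat.card T * Nat.card (ConjClasses T)) ≤ Nat.card X)
    (h : allD (ftest l n c r e cls adm ex bd loc ords) l 1 = true) : FrobRow c D X := by
  have := ctx.fin
  have := ctx.simple
  refine ⟨P, Q, hP ▸ hr, hQ, hfp, hQ1, ?_⟩
  intro T hT hPQ hd
  have hcard := card_subgroup_dvd_card T
  have hmul : Nat.card T * T.index = Nat.card X := card_mul_index T
  have hTpos : 0 < Nat.card T := Nat.card_pos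
  have hn : Nat.card X = n := ctx.card
  have hidx : n / Nat.card T = T.index := by
    rw [← hn, ← hmul, Nat.mul_div_cancel_left _ hTpos]
  have hipos : 0 < T.index := Nat.pos_of_ne_zero T.index_ne_zero_of_finite
  have hkT : Nat.card (ConjClasses T) ≤ Nat.card T := by
    exact Nat.card_le_card_of_surjective (ConjClasses.mk : T → ConjClasses T) (fun x => Quotient.exists_rep x)
  have fin : ∀ k : ℕ, Nat.card (ConjClasses T) ≤ k → k ≤ T.index / c →
      c * (Nat.card T * Nat.card (ConjClasses T)) ≤ Nat.card X := by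
    intro k h1 h2
    have h3 : k * c ≤ T.index := (Nat.le_div_iff_mul_le hc).1 h2
    calc c * (Nat.card T * Nat.card (ConjClasses T)) ≤ c * (Nat.card T * k) := by gcongr
      _ = Nat.card T * (k * c) := by ring
      _ ≤ Nat.card T * T.index := by gcongr
      _ = Nat.card X := hmul
  have hdiv : Nat.card T ∈ divsT l := by
    refine mem_divsT (valid_prime ctx.val) ?_
    rw [valid_prod ctx.val, ← hn]
    exact hcard
  have h1 := allD_sound h _ hdiv
  rw [one_mul] at h1
  unfold ftest at h1
  rw [Bool.or_eq_true, Bool.or_eq_true, Bool.or_eq_true, Bool.or_eq_true, Bool.or_eq_true, Bool.or_eq_true] at h1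
  rcases h1 with ((((((h1 | h1) | h1) | h1) | h1) | h1) | h1)
  · rw [Nat.ble_eq] at h1
    rw [hn]
    refine le_trans ?_ h1
    gcongr
  · exfalso
    rw [Bool.and_eq_true, Bool.not_eq_true', Bool.not_eq_true'] at h1
    rcases hPQ with hPQ | hPQ
    · have h2 := card_dvd_of_le hPQ
      rw [hP] at h2
      have h3 := h1.1
      rw [Nat.mod_eq_zero_of_dvd h2] at h3
      exact absurd h3 (by decide)
    · have h2 := card_dvd_of_le hPQ
      rw [hQe] at h2
      have h3 := h1.2
      rw [Nat.mod_eq_zero_of_dvd h2] at h3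
      exact absurd h3 (by decide)
  · rw [List.any_eq_true] at h1
    obtain ⟨cl, hcl, h2⟩ := h1
    rw [hidx] at h2
    exact fin _ (card_cls_le T (hcls cl hcl) h2) le_rfl
  · exfalso
    refine hT ((card_eq_iff_eq_top T).1 ?_)
    rw [hn]
    exact Nat.eq_of_beq_eq_true h1
  · exfalso
    obtain ⟨d, hdD, hdT⟩ := hd
    cases adm with
    | nil => exact Bool.noConfusion h1
    | cons a as =>
      have h2 : ((a :: as).all fun d => !(Nat.beq (d % (n / Nat.card T)) 0)) = true := h1
      rw [List.all_eq_true] at h2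
      have h3 := h2 d (hadm (List.cons_ne_nil _ _) d hdD)
      rw [hidx, Nat.mod_eq_zero_of_dvd hdT] at h3
      exact absurd h3 (by decide)
  · rw [List.any_eq_true] at h1
    obtain ⟨i, hi, h2⟩ := h1
    have h3 := Nat.eq_of_beq_eq_true h2
    rw [hidx] at h3
    exact hex T hT hPQ hd (h3 ▸ hi)
  · exfalso
    have h2 := not_bad ctx.val hn ctx.ords ctx.loc (full := []) (bd := bd) (H := T) (fun p hp => absurd hp List.not_mem_nil) hT
    rw [h2] at h1
    exact absurd h1 (by decide)

/-- a Frobenius subgroup from a self-centralizing subgroup of prime order -/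
theorem frob_pair {X : Type u} [Group X] [Finite X] {R : Subgroup X} {r q : ℕ} (hr : r.Prime) (hq : q.Prime) (hqr : q ≠ r)
    (hR : Nat.card R = r) (hC : Nat.card (centralizer (R : Set X)) = r)
    (hN : q ∣ Nat.card (normalizer (R : Set X))) :
    ∃ Q : Subgroup X, Nat.card Q = q ∧ Q ≤ normalizer (R : Set X) ∧
      (∀ u ∈ R, ∀ g ∈ Q, g * u = u * g → u = 1 ∨ g = 1) ∧ Q ≠ ⊥ := by
  have : Fact q.Prime := ⟨hq⟩
  obtain ⟨y, hy⟩ := exists_prime_orderOf_dvd_card' (G := normalizer (R : Set X)) q hN
  have hy' : orderOf (y : X) = q := by rw [orderOf_coe]; exact hy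
  have hcard : Nat.card (zpowers (y : X)) = q := by rw [Nat.card_zpowers, hy']
  refine ⟨zpowers (y : X), hcard, (zpowers_le).2 y.2, ?_, ?_⟩
  · intro u hu g hg hgu
    by_contra hne
    push Not at hne
    obtain ⟨hu1, hg1⟩ := hne
    have hRu : zpowers u = R := by
      refine Subgroup.eq_of_le_of_card_ge ((zpowers_le).2 hu) ?_
      rw [hR, Nat.card_zpowers]
      have h1 : orderOf u ∣ r := by rw [← hR]; exact R.orderOf_dvd_natCard hu
      rcases (Nat.dvd_prime hr).1 h1 with h2 | h2
      · exact absurd (orderOf_eq_one_iff.1 h2) hu1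
      · exact h2.ge
    have hgC : g ∈ centralizer (R : Set X) := by
      rw [mem_centralizer_iff]
      intro x hx
      rw [← hRu] at hx
      obtain ⟨k, rfl⟩ := mem_zpowers_iff.1 hx
      have : Commute u g := hgu.symm
      exact (this.zpow_left k).eq
    have h1 : orderOf g ∣ r := by
      rw [← hC]
      have := orderOf_dvd_natCard (⟨g, hgC⟩ : centralizer (R : Set X))
      rwa [← orderOf_coe] at this
    have h2 : orderOf g ∣ q := by
      rw [← hcard]
      have := orderOf_dvd_natCard (⟨g, hg⟩ : zpowers (y : X))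
      rwa [← orderOf_coe] at this
    have h3 : orderOf g = 1 := by
      rcases (Nat.dvd_prime hr).1 h1 with h4 | h4
      · exact h4
      · rcases (Nat.dvd_prime hq).1 h2 with h5 | h5
        · exact h5
        · exact absurd (h5.symm.trans h4) hqr
    exact hg1 (orderOf_eq_one_iff.1 h3)
  · intro h
    rw [h, card_bot] at hcard
    exact hq.one_lt.ne hcard

/-- transport of the row -/
theorem FrobRow.congr {X : Type u} {Y : Type v} [Group X] [Group Y] (f : X ≃* Y) {c : ℕ} {D : Set ℕ} (h : FrobRow c D X) :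
    FrobRow c D Y := by
  obtain ⟨P, Q, h1, h2, h3, h4, h5⟩ := h
  have cm : ∀ H : Subgroup X, Nat.card (H.map f.toMonoidHom) = Nat.card H := fun H =>
    (Nat.card_congr (H.equivMapOfInjective f.toMonoidHom f.injective).toEquiv).symm
  refine ⟨P.map f.toMonoidHom, Q.map f.toMonoidHom, by rw [cm]; exact h1, ?_, ?_, ?_, ?_⟩
  · rintro _ ⟨q, hq, rfl⟩
    have := mem_normalizer_iff.1 (h2 hq)
    rw [mem_normalizer_iff]
    intro y
    obtain ⟨x, rfl⟩ := f.surjective y
    have e1 : (f.toMonoidHom q) * f x * (f.toMonoidHom q)⁻¹ = f (q * x * q⁻¹) := by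
      simp only [MulEquiv.toMonoidHom_eq_coe, MonoidHom.coe_coe, map_mul, map_inv]
    rw [e1]
    have e2 : ∀ z : X, f z ∈ P.map f.toMonoidHom ↔ z ∈ P := fun z =>
      mem_map_iff_mem (f := f.toMonoidHom) f.injective
    exact (e2 x).trans ((this x).trans (e2 _).symm)
  · rintro _ ⟨u, hu, rfl⟩ _ ⟨g, hg, rfl⟩ hgu
    have : g * u = u * g := f.injective (by
      rw [map_mul, map_mul]; exact hgu)
    rcases h3 u hu g hg this with rfl | rfl
    · exact Or.inl (map_one _)
    · exact Or.inr (map_one _)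
  · intro h
    refine h4 ?_
    rw [Subgroup.map_eq_bot_iff_of_injective] at h
    · exact h
    · exact f.injective
  · intro T hT hPQ hd
    set T' : Subgroup X := T.comap f.toMonoidHom with hT'
    have hTT : T'.map f.toMonoidHom = T := map_comap_eq_self_of_surjective f.surjective T
    have hcT : Nat.card T = Nat.card T' := by rw [← hTT, cm]
    have hkT : Nat.card (ConjClasses T) = Nat.card (ConjClasses T') := by
      rw [← hTT]
      have e : T' ≃* T'.map f.toMonoidHom := T'.equivMapOfInjective f.toMonoidHom f.injective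
      exact (Nat.card_congr (H504.Zeros.ccEquiv e)).symm
    have hi : T'.index = T.index := index_comap_of_surjective T f.surjective
    rw [hcT, hkT, ← Nat.card_congr f.toEquiv]
    refine h5 T' ?_ ?_ (by rw [hi]; exact hd)
    · intro h
      refine hT ?_
      rw [← hTT, h]
      exact map_top_of_surjective _ f.surjective
    · rcases hPQ with hPQ | hPQ
      · exact Or.inl (map_le_iff_le_comap.1 hPQ)
      · exact Or.inr (map_le_iff_le_comap.1 hPQ)

end Cfsg.Agent.H670.S8

private theorem dce_f7c8379b58c3 : _root_.True := by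
  try have : _root_.True := by simp only [_root_.Cfsg.Agent.H940.Eng.divsT.eq_1]
  try have : _root_.True := by simp only [_root_.Cfsg.Agent.H940.Eng.divsT.eq_2]
  try have : _root_.True := by simp only [_root_.Cfsg.Agent.H670.S8.allD.eq_def]
  exact _root_.True.intro
end

-- part: H670/S8/SharpEng2
section
set_option linter.all false
open scoped Cfsg.Agent.FastGrp

-- part: H670/S8/SharpEng
section
/-!
# The kernel test for `SideS` and `ChiefS` (helper670, S4908)

`sideS_of`: one kernel computation over the divisors `m` of `|X|` (the orders of the proper subgroups `T ≥ Q`). The order `m`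
is excluded if
* `w = |Q|` (or a divisor of it) does not divide `m`;
* `E = emax adm (|X| / m)`, the largest `d / |X : T|` (`d ∈ adm`, `|X : T|` divides `d`), is `0`, or `k(T) E² < m` by the
  bound of `KB.lean`;
* `c m² ≤ |X|`, or `k(T) ≤ |X| / (c m)`;
* the order engine of helper940 excludes `m`;
* the index is in the list `ex` (by hand).
-/

set_option autoImplicit false

namespace Cfsg.Agent.H670.S8

open Cfsg Subgroup Cfsg.Agent.H940.Eng Cfsg.Agent.H704.S8 Cfsg.Agent.OrdDiv

universe u v

/-- the largest quotient `d / n`, `d` in the list divisible by `n` -/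
def emax (adm : List ℕ) (n : ℕ) : ℕ :=
  adm.foldr (fun d a => if Nat.beq (d % n) 0 then Nat.max (d / n) a else a) 0

theorem le_emax {n e d : ℕ} (hn : 0 < n) (hd0 : 0 < d) (h : n * e ∣ d) : ∀ {adm : List ℕ}, d ∈ adm → e ≤ emax adm n := by
  intro adm
  induction adm with
  | nil => intro hd; exact absurd hd List.not_mem_nil
  | cons a l ih =>
    intro hd
    show e ≤ if Nat.beq (a % n) 0 then Nat.max (a / n) (emax l n) else emax l n
    rcases List.mem_cons.1 hd with rfl | h1
    · have h2 : d % n = 0 := Nat.mod_eq_zero_of_dvd (dvd_of_mul_right_dvd h)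
      rw [h2]
      refine le_trans ?_ (Nat.le_max_left _ _)
      rw [Nat.le_div_iff_mul_le hn, mul_comm]
      exact Nat.le_of_dvd hd0 h
    · split_ifs
      · exact (ih h1).trans (Nat.le_max_right _ _)
      · exact ih h1

/-- the test for the order `m` -/
def stest (l : List (ℕ × ℕ)) (n c w : ℕ) (cls : List (List (ℕ × List ℕ))) (adm ex : List ℕ) (bd : ℕ) (loc : List LD)
    (ords : List ℕ) (m : ℕ) : Bool :=
  !(Nat.beq (m % w) 0) || Nat.ble (c * (m * m)) n || Nat.beq m n ||
    (match emax adm (n / m) with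
      | 0 => true
      | E + 1 => cls.any fun cl => kb cl m 0 1 ((m - 1) / ((E + 1) * (E + 1)))) ||
    (cls.any fun cl => kb cl m 0 1 (n / m / c)) || (ex.any fun i => Nat.beq i (n / m)) || bad l n [] bd loc ords m

/-- transport -/
theorem ChiefS.congr {X : Type v} {Y : Type*} [Group X] [Group Y] (f : X ≃* Y) {c : ℕ} {D : Set ℕ} (h : ChiefS.{u} c D X) :
    ChiefS.{u} c D Y := by
  intro Λ _ _ ρ hρ x
  refine h Λ (ρ.comp f.toMonoidHom) (fun x hx => ?_) x
  obtain ⟨T, h1, h2, ⟨h3, h4⟩, h5⟩ := hρ x hx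
  have hc : Nat.card (T.comap f.toMonoidHom) = Nat.card T := by
    have h6 : (T.comap f.toMonoidHom).map f.toMonoidHom = T := map_comap_eq_self_of_surjective f.surjective T
    conv_rhs => rw [← h6]
    exact Nat.card_congr ((T.comap f.toMonoidHom).equivMapOfInjective f.toMonoidHom f.injective).toEquiv
  have hk : Nat.card (ConjClasses (T.comap f.toMonoidHom)) = Nat.card (ConjClasses T) := by
    have h6 : (T.comap f.toMonoidHom).map f.toMonoidHom = T := map_comap_eq_self_of_surjective f.surjective T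
    conv_rhs => rw [← h6]
    exact Nat.card_congr (H504.Zeros.ccEquiv ((T.comap f.toMonoidHom).equivMapOfInjective f.toMonoidHom f.injective))
  have hi : (T.comap f.toMonoidHom).index = T.index := index_comap_of_surjective T f.surjective
  refine ⟨T.comap f.toMonoidHom, fun g => h1 (f g), ?_, ⟨?_, ?_⟩, ?_⟩
  · intro h
    refine h2 ?_
    have h6 : (T.comap f.toMonoidHom).map f.toMonoidHom = T := map_comap_eq_self_of_surjective f.surjective T
    rw [h] at h6
    rw [← h6]
    exact map_top_of_surjective _ f.surjective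
  · rw [hc, hk, Nat.card_congr f.toEquiv]
    exact h3
  · rw [hi]; exact h4
  · obtain ⟨s, s1, s2, s3⟩ := h5
    exact ⟨s, by rw [hi]; exact s1, by rw [hc]; exact s2, by rw [hk]; exact s3⟩

end Cfsg.Agent.H670.S8
end

-- part: H670/S8/SharpEng2
section
/-!
# The kernel test for `ChiefS`, second version (helper670, S4908)

Two additions to `SharpEng`:
* data `(p, q, cs)`: each subgroup `T` with `q ∣ |T|` contains a `p`-element with centralizer order (in `X`) dividing a member
  of `cs` (`q` the full power of `p`: one element `g` suffices, `cloc2_sylow`; `q = p`: `cloc2_of`);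
* the index sieve: `|X : T| - 1` is a sum of nontrivial degrees of `X` (list `admX`), used for indices at most `rb`.
-/

set_option autoImplicit false

namespace Cfsg.Agent.H670.S8

open Cfsg Subgroup Cfsg.Agent.Characters Cfsg.Agent.H940.Eng Cfsg.Agent.H704.S8 Cfsg.Agent.OrdDiv

universe u v

/-! ### class bound -/

/-- one prime, any `p`-element -/
theorem nd_step' {T : Type u} [Group T] [Finite T] {p P : ℕ} (hp : p.Prime) (hc : p.Coprime P) {x : T}
    (hx : ∃ k : ℕ, orderOf x = p ^ k) : nd T P ≤ Nat.card (centralizer ({x} : Set T)) + nd T (P * p) := by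
  classical
  have : Fact p.Prime := ⟨hp⟩
  have hfin : Finite (IrrCharacter T) := Core.finite_irr
  have : Fintype (IrrCharacter T) := Fintype.ofFinite _
  have h1 := H296.BD.card_ne_zero_le x
  refine le_trans ?_ (Nat.add_le_add_right h1 _)
  rw [nd, nd, Nat.card_eq_fintype_card, Nat.card_eq_fintype_card, Nat.card_eq_fintype_card, Fintype.card_subtype,
    Fintype.card_subtype, Fintype.card_subtype]
  refine le_trans (Finset.card_le_card ?_) (Finset.card_union_le _ _)
  intro χ hχ
  rw [Finset.mem_filter] at hχ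
  rw [Finset.mem_union, Finset.mem_filter, Finset.mem_filter]
  by_cases h : p ∣ charDegree (χ : T → ℂ)
  · exact Or.inr ⟨Finset.mem_univ _, hc.symm.mul_dvd_of_dvd_of_dvd hχ.2 h⟩
  · exact Or.inl ⟨Finset.mem_univ _, H627.PrincipalCount.apply_ne_zero (Core.isIrr_isCharacter χ.2) h x hx⟩

/-- each subgroup with order divisible by `q = x.2.1` contains a `p`-element with small centralizer -/
def CLoc2 (X : Type u) [Group X] (x : ℕ × ℕ × List ℕ) : Prop :=
  x.1.Prime ∧ ∀ T : Subgroup X, x.2.1 ∣ Nat.card T → ∃ g ∈ T, (∃ k : ℕ, orderOf g = x.1 ^ k) ∧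
    ∃ c ∈ x.2.2, Nat.card (centralizer ({g} : Set X)) ∣ c

theorem cloc2_of {X : Type u} [Group X] [Finite X] {p : ℕ} {cs : List ℕ} (h : CLoc X (p, cs)) : CLoc2 X (p, p, cs) := by
  obtain ⟨hp, h⟩ := h
  refine ⟨hp, fun T hT => ?_⟩
  have : Fact p.Prime := ⟨hp⟩
  obtain ⟨y, hy⟩ := exists_prime_orderOf_dvd_card' (G := T) p hT
  have hy' : orderOf (y : X) = p := by rw [orderOf_coe]; exact hy
  exact ⟨y, y.2, ⟨1, by rw [hy', pow_one]⟩, h y hy'⟩

/-- the full Sylow subgroup -/
theorem cloc2_sylow {X : Type u} [Group X] [Finite X] {p a : ℕ} (hp : p.Prime) (ha : ¬ p ^ (a + 1) ∣ Nat.card X) {g : X}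
    (hg : ∃ k : ℕ, orderOf g = p ^ k) {c : ℕ} (hc : Nat.card (centralizer ({g} : Set X)) ∣ c) :
    CLoc2 X (p, p ^ a, [c]) := by
  refine ⟨hp, fun T hT => ?_⟩
  have : Fact p.Prime := ⟨hp⟩
  obtain ⟨k, hk⟩ := hg
  -- a Sylow subgroup of `T` is a Sylow subgroup of `X`
  obtain ⟨P⟩ : Nonempty (Sylow p T) := inferInstance
  have hP : IsPGroup p (P.1.map T.subtype) := P.2.map _
  obtain ⟨S, hS⟩ := hP.exists_le_sylow
  have h1 : p ^ a ∣ Nat.card (P.1.map T.subtype) := by
    rw [card_subtype]
    exact P.pow_dvd_card_of_pow_dvd_card hT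
  have h2 : Nat.card S ∣ p ^ a := by
    obtain ⟨n, hn⟩ := IsPGroup.iff_card.1 S.2
    have h3 : Nat.card (S : Subgroup X) ∣ Nat.card X := card_subgroup_dvd_card _
    rw [hn] at h3
    have h4 : n ≤ a := by
      by_contra h5
      exact ha ((pow_dvd_pow p (by omega)).trans h3)
    show Nat.card (S : Subgroup X) ∣ p ^ a
    rw [hn]
    exact pow_dvd_pow p h4
  have h3 : P.1.map T.subtype = S := by
    refine Subgroup.eq_of_le_of_card_ge hS ?_
    exact (Nat.le_of_dvd (pow_pos hp.pos _) h2).trans (Nat.le_of_dvd Nat.card_pos h1)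
  -- a conjugate of `g` lies in `S`
  have h4 : IsPGroup p (zpowers g) := IsPGroup.of_card (n := k) (by rw [Nat.card_zpowers, hk])
  obtain ⟨S', hS'⟩ := h4.exists_le_sylow
  obtain ⟨y, hy⟩ := MulAction.exists_smul_eq X S' S
  have h5 : y * g * y⁻¹ ∈ S := by
    rw [← hy, Sylow.smul_def, ← SetLike.mem_coe]
    exact Subgroup.smul_mem_pointwise_smul _ _ _ (hS' (mem_zpowers g))
  have h6 : y * g * y⁻¹ ∈ T := by
    have h7 : y * g * y⁻¹ ∈ P.1.map T.subtype := by rw [h3]; exact h5
    obtain ⟨z, -, hz⟩ := h7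
    rw [← hz]
    exact z.2
  refine ⟨_, h6, ⟨k, ?_⟩, c, List.mem_singleton_self _, ?_⟩
  · rw [← hk]
    exact orderOf_injective (MulAut.conj y).toMonoidHom (MulAut.conj y).injective g
  · have h8 : IsConj g (y * g * y⁻¹) := isConj_iff.2 ⟨y, rfl⟩
    obtain ⟨f⟩ : Nonempty (centralizer ({g} : Set X) ≃ centralizer ({y * g * y⁻¹} : Set X)) := by
      refine ⟨(((MulAut.conj y).subgroupMap (centralizer ({g} : Set X))).toEquiv.trans (Equiv.setCongr ?_))⟩
      ext w
      simp only [SetLike.mem_coe, mem_map, mem_centralizer_singleton_iff]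
      constructor
      · rintro ⟨x, hx, rfl⟩
        show y * x * y⁻¹ * (y * g * y⁻¹) = y * g * y⁻¹ * (y * x * y⁻¹)
        calc y * x * y⁻¹ * (y * g * y⁻¹) = y * (x * g) * y⁻¹ := by group
          _ = y * (g * x) * y⁻¹ := by rw [hx]
          _ = _ := by group
      · intro hw
        refine ⟨y⁻¹ * w * y, ?_, ?_⟩
        · calc y⁻¹ * w * y * g = y⁻¹ * (w * (y * g * y⁻¹)) * y := by group
            _ = y⁻¹ * (y * g * y⁻¹ * w) * y := by rw [hw]
            _ = _ := by group
        · show y * (y⁻¹ * w * y) * y⁻¹ = w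
          group
    rw [← Nat.card_congr f]
    exact hc

/-- `s` characters are counted, the others have degree divisible by `P`; is `k ≤ b` ? -/
def kb2 : List (ℕ × ℕ × List ℕ) → ℕ → ℕ → ℕ → ℕ → Bool
  | [], m, s, P, b => Nat.ble (s + m / (P * P)) b
  | x :: l, m, s, P, b => Nat.ble (s + m / (P * P)) b ||
      ((Nat.beq (m % x.2.1) 0 && Nat.beq (Nat.gcd x.1 P) 1) && kb2 l m (s + cmax x.2.2 m) (P * x.1) b) || kb2 l m s P b

theorem kb2_sound {X : Type u} [Group X] [Finite X] (H : Subgroup X) {b : ℕ} :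
    ∀ {l : List (ℕ × ℕ × List ℕ)} {s P : ℕ}, (∀ x ∈ l, CLoc2 X x) → kb2 l (Nat.card H) s P b = true → 0 < P →
      Nat.card (ConjClasses H) ≤ s + nd H P → Nat.card (ConjClasses H) ≤ b := by
  have base : ∀ {s P : ℕ}, 0 < P → Nat.ble (s + Nat.card H / (P * P)) b = true →
      Nat.card (ConjClasses H) ≤ s + nd H P → Nat.card (ConjClasses H) ≤ b := by
    intro s P hP h1 h2
    rw [Nat.ble_eq] at h1
    refine h2.trans (le_trans (Nat.add_le_add_left ?_ s) h1)
    rw [Nat.le_div_iff_mul_le (Nat.mul_pos hP hP), ← pow_two]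
    exact nd_mul_le
  intro l
  induction l with
  | nil =>
    intro s P _ h hP hk
    exact base hP h hk
  | cons x l ih =>
    intro s P hl h hP hk
    unfold kb2 at h
    rw [Bool.or_eq_true, Bool.or_eq_true] at h
    have hl' : ∀ y ∈ l, CLoc2 X y := fun y hy => hl y (List.mem_cons_of_mem _ hy)
    rcases h with (h | h) | h
    · exact base hP h hk
    · rw [Bool.and_eq_true, Bool.and_eq_true] at h
      obtain ⟨hc, h⟩ := h
      have h1 : x.2.1 ∣ Nat.card H := Nat.dvd_of_mod_eq_zero (Nat.eq_of_beq_eq_true hc.1)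
      have h2 : Nat.Coprime x.1 P := Nat.eq_of_beq_eq_true hc.2
      obtain ⟨hp, hcl⟩ := hl x List.mem_cons_self
      obtain ⟨y, hy, ⟨k, hk1⟩, c, hc1, hc2⟩ := hcl H h1
      refine ih hl' h (Nat.mul_pos hP hp.pos) (hk.trans ?_)
      have h3 := nd_step' (T := H) hp h2 (x := ⟨y, hy⟩) ⟨k, by rw [← hk1, ← orderOf_coe]⟩
      have h4 : Nat.card (centralizer ({(⟨y, hy⟩ : H)} : Set H)) ≤ cmax x.2.2 (Nat.card H) :=
        le_cmax hc1 Nat.card_pos ((card_cent_sub H ⟨y, hy⟩).trans hc2) (card_subgroup_dvd_card _)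
      omega
    · exact ih hl' h hP hk

theorem card_cls_le2 {X : Type u} [Group X] [Finite X] (H : Subgroup X) {l : List (ℕ × ℕ × List ℕ)}
    (hl : ∀ x ∈ l, CLoc2 X x) {b : ℕ} (h : kb2 l (Nat.card H) 0 1 b = true) : Nat.card (ConjClasses H) ≤ b :=
  kb2_sound H hl h one_pos (by rw [nd_one, zero_add])

/-! ### the index sieve -/

/-- is `r` a combination of the members of the list with natural coefficients ? -/
def reprs : List ℕ → ℕ → Bool
  | [], r => Nat.beq r 0
  | a :: l, r => (List.range (r / a + 1)).any fun k => reprs l (r - k * a)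

theorem reprs_of {ι : Type*} [DecidableEq ι] : ∀ {l : List ℕ}, (∀ a ∈ l, 0 < a) → ∀ (s : Finset ι) (m d : ι → ℕ),
    (∀ i ∈ s, d i ∈ l) → reprs l (∑ i ∈ s, m i * d i) = true := by
  intro l
  induction l with
  | nil =>
    intro _ s m d h
    have : s = ∅ := Finset.eq_empty_of_forall_notMem fun i hi => absurd (h i hi) List.not_mem_nil
    rw [this, Finset.sum_empty]
    rfl
  | cons a l ih =>
    intro hl s m d h
    have ha : 0 < a := hl a List.mem_cons_self
    have hsum : ∑ i ∈ s, m i * d i = (∑ i ∈ s.filter (fun i => d i = a), m i) * a +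
        ∑ i ∈ s.filter (fun i => ¬ d i = a), m i * d i := by
      rw [← Finset.sum_filter_add_sum_filter_not s (fun i => d i = a), Finset.sum_mul]
      congr 1
      exact Finset.sum_congr rfl fun i hi => by rw [(Finset.mem_filter.1 hi).2]
    unfold reprs
    rw [List.any_eq_true]
    refine ⟨∑ i ∈ s.filter (fun i => d i = a), m i, ?_, ?_⟩
    · rw [List.mem_range, Nat.lt_succ_iff, Nat.le_div_iff_mul_le ha, hsum]
      exact Nat.le_add_right _ _
    · rw [hsum, Nat.add_sub_cancel_left]
      refine ih (fun b hb => hl b (List.mem_cons_of_mem _ hb)) _ m d fun i hi => ?_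
      have h1 := Finset.mem_filter.1 hi
      rcases List.mem_cons.1 (h i h1.1) with h2 | h2
      · exact absurd h2 h1.2
      · exact h2

/-- the index minus one is a sum of nontrivial degrees -/
theorem reprs_index {X : Type u} [Group X] [Finite X] (L : Subgroup X) {l : List ℕ} (hl : ∀ a ∈ l, 0 < a)
    (h : ∀ ξ : IrrCharacter X, (ξ : X → ℂ) ≠ (fun _ => 1) → charDegree (ξ : X → ℂ) ∈ l) :
    reprs l (L.index - 1) = true := by
  classical
  have : Fintype X := Fintype.ofFinite _
  have hf : Finite (IrrCharacter X) := Core.finite_irr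
  have : Fintype (IrrCharacter X) := Fintype.ofFinite _
  obtain ⟨m, hm⟩ := Core.exists_nat_comb (H40.HT.isCharacter_ind L)
  have hmul : ∀ ξ : IrrCharacter X, classInner (indFun L fun _ => (1 : ℂ)) (ξ : X → ℂ) = (m ξ : ℂ) := by
    intro ξ
    rw [hm, Core.classInner_sum_nsmul_irr]
  have h1 : m (H40.HT.tr X) = 1 := by
    have h2 := hmul (H40.HT.tr X)
    rw [H40.HT.tr_apply, H40.HT.inner_ind_one] at h2
    exact_mod_cast h2.symm
  have hdeg : (L.index : ℂ) = ∑ ξ : IrrCharacter X, (m ξ * charDegree (ξ : X → ℂ) : ℕ) := by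
    have h3 := congrFun hm 1
    rw [OddOrderCharacters.IndRes.indFun_apply_one, mul_one, Finset.sum_apply] at h3
    rw [h3, Nat.cast_sum]
    refine Finset.sum_congr rfl fun ξ _ => ?_
    rw [Pi.smul_apply, nsmul_eq_mul, H40.HT.cast_deg, Nat.cast_mul]
  have hdeg' : L.index = ∑ ξ : IrrCharacter X, m ξ * charDegree (ξ : X → ℂ) := by exact_mod_cast hdeg
  have h4 : L.index - 1 = ∑ ξ ∈ Finset.univ.erase (H40.HT.tr X), m ξ * charDegree (ξ : X → ℂ) := by
    have h5 := Finset.add_sum_erase Finset.univ (fun ξ : IrrCharacter X => m ξ * charDegree (ξ : X → ℂ))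
      (Finset.mem_univ (H40.HT.tr X))
    have h6 : charDegree (H40.HT.tr X : X → ℂ) = 1 := by
      rw [H40.HT.tr_apply]
      unfold charDegree
      simp
    simp only [h1, h6, mul_one] at h5
    rw [hdeg', ← h5]
    simp
  rw [h4]
  refine reprs_of hl _ m (fun ξ : IrrCharacter X => charDegree (ξ : X → ℂ)) fun ξ hξ => h ξ fun h7 => ?_
  exact (Finset.mem_erase.1 hξ).1 (Subtype.ext h7)

/-! ### the test -/

/-- the test for the order `m` -/
def stest2 (l : List (ℕ × ℕ)) (n c w : ℕ) (cl : List (ℕ × ℕ × List ℕ)) (adm admX : List ℕ) (rb : ℕ) (ex : List ℕ) (bd : ℕ)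
    (loc : List LD) (ords : List ℕ) (m : ℕ) : Bool :=
  !(Nat.beq (m % w) 0) || Nat.ble (c * (m * m)) n || Nat.beq m n ||
    (match emax adm (n / m) with
      | 0 => true
      | E + 1 => kb2 cl m 0 1 ((m - 1) / ((E + 1) * (E + 1)))) ||
    kb2 cl m 0 1 (n / m / c) || (ex.any fun i => Nat.beq i (n / m)) ||
    (Nat.ble (n / m) rb && !(reprs admX (n / m - 1))) || bad l n [] bd loc ords m

/-- **the test is sound** -/
theorem sideS_of2 {X : Type u} [Group X] {l : List (ℕ × ℕ)} {n : ℕ} {ords : List ℕ} {loc : List LD}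
    (ctx : Ctx X l n ords loc) {c : ℕ} (hc : 0 < c) {D : Set ℕ} {cl : List (ℕ × ℕ × List ℕ)}
    (hcl : ∀ x ∈ cl, CLoc2 X x) {adm : List ℕ} (hadm : ∀ d ∈ D, d ∈ adm) (h0 : (adm.all fun d => Nat.blt 0 d) = true)
    {admX : List ℕ} (hX : ∀ ξ : IrrCharacter X, (ξ : X → ℂ) ≠ (fun _ => 1) → charDegree (ξ : X → ℂ) ∈ admX)
    (hX0 : (admX.all fun d => Nat.blt 0 d) = true) {rb : ℕ}
    {ex : List ℕ} {bd w : ℕ} {Q : Subgroup X} (hQ : w ∣ Nat.card Q)
    (hex : ∀ T : Subgroup X, T ≠ ⊤ → Q ≤ T → (∃ d ∈ D, T.index ∣ d) → Sharp D T → T.index ∈ ex →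
      c * (Nat.card T * Nat.card (ConjClasses T)) ≤ Nat.card X)
    (h : allD (stest2 l n c w cl adm admX rb ex bd loc ords) l 1 = true) : SideS c D X Q := by
  have := ctx.fin
  have := ctx.simple
  intro T hT hQT hd hS
  have hcard := card_subgroup_dvd_card T
  have hmul : Nat.card T * T.index = Nat.card X := card_mul_index T
  have hTpos : 0 < Nat.card T := Nat.card_pos
  have hn : Nat.card X = n := ctx.card
  have hidx : n / Nat.card T = T.index := by
    rw [← hn, ← hmul, Nat.mul_div_cancel_left _ hTpos]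
  have hipos : 0 < T.index := Nat.pos_of_ne_zero T.index_ne_zero_of_finite
  have hkT : Nat.card (ConjClasses T) ≤ Nat.card T := by
    exact Nat.card_le_card_of_surjective (ConjClasses.mk : T → ConjClasses T) (fun x => Quotient.exists_rep x)
  have hpos : ∀ d ∈ D, 0 < d := by
    intro d hd
    rw [List.all_eq_true] at h0
    have h1 := h0 d (hadm d hd)
    rw [Nat.blt_eq] at h1
    exact h1
  have hE : Nat.card T ≤ Nat.card (ConjClasses T) * (emax adm (n / Nat.card T)) ^ 2 := by
    refine hS.card_le fun e he => ?_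
    obtain ⟨d, hd, hdd⟩ := he
    rw [hidx]
    exact le_emax hipos (hpos d hd) hdd (hadm d hd)
  have hdiv : Nat.card T ∈ divsT l := by
    refine mem_divsT (valid_prime ctx.val) ?_
    rw [valid_prod ctx.val, ← hn]
    exact hcard
  have h1 := allD_sound h _ hdiv
  rw [one_mul] at h1
  unfold stest2 at h1
  rw [Bool.or_eq_true, Bool.or_eq_true, Bool.or_eq_true, Bool.or_eq_true, Bool.or_eq_true, Bool.or_eq_true,
    Bool.or_eq_true] at h1
  rcases h1 with (((((((h1 | h1) | h1) | h1) | h1) | h1) | h1) | h1)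
  · exfalso
    rw [Bool.not_eq_true'] at h1
    have h2 := hQ.trans (card_dvd_of_le hQT)
    rw [Nat.mod_eq_zero_of_dvd h2] at h1
    exact absurd h1 (by decide)
  · rw [Nat.ble_eq] at h1
    rw [hn]
    refine le_trans ?_ h1
    gcongr
  · exfalso
    refine hT ((card_eq_iff_eq_top T).1 ?_)
    rw [hn]
    exact Nat.eq_of_beq_eq_true h1
  · exfalso
    cases hEm : emax adm (n / Nat.card T) with
    | zero =>
      rw [hEm, zero_pow (by norm_num), mul_zero] at hE
      omega
    | succ E =>
      rw [hEm] at h1 hE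
      have h2 : kb2 cl (Nat.card T) 0 1 ((Nat.card T - 1) / ((E + 1) * (E + 1))) = true := h1
      have h4 := card_cls_le2 T hcl h2
      rw [Nat.le_div_iff_mul_le (by positivity), ← pow_two] at h4
      omega
  · have h2 := card_cls_le2 T hcl h1
    rw [hidx] at h2
    have h3 : Nat.card (ConjClasses T) * c ≤ T.index := (Nat.le_div_iff_mul_le hc).1 h2
    calc c * (Nat.card T * Nat.card (ConjClasses T)) = Nat.card T * (Nat.card (ConjClasses T) * c) := by ring
      _ ≤ Nat.card T * T.index := by gcongr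
      _ = Nat.card X := hmul
  · rw [List.any_eq_true] at h1
    obtain ⟨i, hi, h2⟩ := h1
    have h3 := Nat.eq_of_beq_eq_true h2
    rw [hidx] at h3
    exact hex T hT hQT hd hS (h3 ▸ hi)
  · exfalso
    rw [Bool.and_eq_true, hidx] at h1
    have h2 := reprs_index T (l := admX) (fun a ha => by
      rw [List.all_eq_true] at hX0
      have h3 := hX0 a ha
      rw [Nat.blt_eq] at h3
      exact h3) hX
    rw [h2] at h1
    exact absurd h1.2 (by decide)
  · exfalso
    have h2 := not_bad ctx.val hn ctx.ords ctx.loc (full := []) (bd := bd) (H := T) (fun p hp => absurd hp List.not_mem_nil) hT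
    rw [h2] at h1
    exact absurd h1 (by decide)

/-- **all orders are excluded**: `ChiefS` from one kernel computation -/
theorem chiefS_of_check2 {X : Type v} [Group X] {l : List (ℕ × ℕ)} {n : ℕ} {ords : List ℕ} {loc : List LD}
    (ctx : Ctx X l n ords loc) {c : ℕ} (hc : 0 < c) {D : Set ℕ} {cl : List (ℕ × ℕ × List ℕ)}
    (hcl : ∀ x ∈ cl, CLoc2 X x) {adm : List ℕ} (hadm : ∀ d ∈ D, d ∈ adm) (h0 : (adm.all fun d => Nat.blt 0 d) = true)
    {admX : List ℕ} (hX : ∀ ξ : IrrCharacter X, (ξ : X → ℂ) ≠ (fun _ => 1) → charDegree (ξ : X → ℂ) ∈ admX)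
    (hX0 : (admX.all fun d => Nat.blt 0 d) = true) {rb bd : ℕ}
    (h : allD (stest2 l n c 1 cl adm admX rb [] bd loc ords) l 1 = true) : ChiefS.{u} c D X := by
  have := ctx.fin
  have := ctx.simple
  exact chiefS_of_all (sideS_of2 ctx hc hcl hadm h0 hX hX0 (one_dvd _) (fun T _ _ _ _ hT => absurd hT List.not_mem_nil) h)

end Cfsg.Agent.H670.S8
end

private theorem dce_032620b542bd : _root_.True := by
  try have : _root_.True := by simp only [_root_.Cfsg.Agent.H670.S8.kb2.eq_def]
  try have : _root_.True := by simp only [_root_.Cfsg.Agent.H670.S8.reprs.eq_def]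
  exact _root_.True.intro
end
end
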